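/-
Power series over a Noetherian local ring of positive depth: truncations and associated primes.
-/
import Groth.Agent.CAlg48.PowerSeriesAFS
import Groth.Agent.RamSam.Taylor
import Groth.Agent.Depth.Local
import Mathlib.RingTheory.MvPowerSeries.Order
import Mathlib.RingTheory.Ideal.AssociatedPrime.Localization

set_option autoImplicit false

universe u

open MvPowerSeries IsLocalRing

namespace Groth.Agent.Pi1PS

variable {R : Type u} [CommRing R] {d : ℕ}

local notation "𝔛" => Ideal.span (Set.range (MvPowerSeries.X : Fin d → MvPowerSeries (Fin d) R))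

theorem le_ker_constantCoeff :
    𝔛 ≤ RingHom.ker (constantCoeff : MvPowerSeries (Fin d) R →+* R) := by
  rw [Ideal.span_le]
  rintro _ ⟨i, rfl⟩
  simp

theorem coeff_eq_zero_of_mem_pow {n : ℕ} {f : MvPowerSeries (Fin d) R} (hf : f ∈ 𝔛 ^ n)
    (e : Fin d →₀ ℕ) (he : Finsupp.degree e < n) : coeff e f = 0 := by
  suffices h : (n : ℕ∞) ≤ f.order from
    coeff_of_lt_order (lt_of_lt_of_le (Nat.cast_lt.mpr he) h)
  clear he
  induction n generalizing f with
  | zero => simp
  | succ n ih =>
    rw [pow_succ] at hf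
    refine Submodule.mul_induction_on hf (fun a ha b hb => ?_) fun a b ha hb =>
      (le_min ha hb).trans (min_order_le_add)
    refine le_trans ?_ le_order_mul
    rw [Nat.cast_succ]
    exact add_le_add (ih ha) (one_le_order_iff_constCoeff_eq_zero.mpr (le_ker_constantCoeff hb))

theorem mem_pow_iff {n : ℕ} {f : MvPowerSeries (Fin d) R} :
    f ∈ 𝔛 ^ n ↔ ∀ e, Finsupp.degree e < n → coeff e f = 0 := by
  refine ⟨fun hf e he => coeff_eq_zero_of_mem_pow hf e he, fun h => ?_⟩
  have h0 : truncTotal n f = 0 := by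
    ext e
    rw [coeff_truncTotal_eq_ite]
    split_ifs with he
    · rw [h e he, MvPolynomial.coeff_zero]
    · rw [MvPolynomial.coeff_zero]
  have := CAlg48.PowerSeriesAFS.sub_truncTotal_mem f n
  rwa [h0, MvPolynomial.coe_zero, sub_zero] at this

theorem ker_constantCoeff :
    RingHom.ker (constantCoeff : MvPowerSeries (Fin d) R →+* R) = 𝔛 := by
  refine le_antisymm (fun f hf => ?_) le_ker_constantCoeff
  have := (mem_pow_iff (n := 1) (f := f)).mpr fun e he => by
    rw [Nat.lt_one_iff, Finsupp.degree_eq_zero_iff] at he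
    rw [he, coeff_zero_eq_constantCoeff]
    exact hf
  simpa using this

/-- Truncation identifies the power series modulo `(X) ^ n` with a direct summand. -/
theorem flat_quot_pow [IsNoetherianRing R] (n : ℕ) :
    Module.Flat R (MvPowerSeries (Fin d) R ⧸ 𝔛 ^ n) := by
  haveI : Module.Flat R (MvPowerSeries (Fin d) R) :=
    RingHom.flat_algebraMap_iff.1 (RamSam.flat_C (Fin d))
  let t : MvPowerSeries (Fin d) R →ₗ[R] MvPowerSeries (Fin d) R :=
    ((MvPolynomial.coeToMvPowerSeries.algHom R).toLinearMap).comp (truncTotal n)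
  have ht : ∀ f, t f = ((truncTotal n f : MvPolynomial (Fin d) R) : MvPowerSeries (Fin d) R) := fun f => by
    simp [t]
  let i : (MvPowerSeries (Fin d) R ⧸ (𝔛 ^ n).restrictScalars R) →ₗ[R] MvPowerSeries (Fin d) R :=
    Submodule.liftQ _ t fun f hf => by
      rw [LinearMap.mem_ker, ht]
      have h0 : truncTotal n f = 0 := by
        ext e
        rw [coeff_truncTotal_eq_ite]
        split_ifs with he
        · rw [coeff_eq_zero_of_mem_pow hf e he, MvPolynomial.coeff_zero]
        · rw [MvPolynomial.coeff_zero]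
      rw [h0, MvPolynomial.coe_zero]
  have key : Module.Flat R (MvPowerSeries (Fin d) R ⧸ (𝔛 ^ n).restrictScalars R) :=
    Module.Flat.of_retract i (Submodule.mkQ _) <| LinearMap.ext fun z => by
      obtain ⟨f, rfl⟩ := Submodule.mkQ_surjective _ z
      show Submodule.mkQ _ (t f) = Submodule.mkQ _ f
      rw [ht]
      refine ((Submodule.Quotient.eq _).mpr ?_).symm
      exact CAlg48.PowerSeriesAFS.sub_truncTotal_mem f n
  exact @Module.Flat.of_linearEquiv _ _ _ _ _ _ _ _ key
    (Submodule.Quotient.restrictScalarsEquiv R (𝔛 ^ n)).symm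

/-- An associated prime of the power series ring is contained in a non-maximal prime containing the
variables, if the coefficient ring has positive depth. -/
theorem exists_prime_of_colon [IsNoetherianRing R] [IsLocalRing R]
    (hR : (1 : ℕ∞) ≤ LocCoh.depth R R) (p : Ideal (MvPowerSeries (Fin d) R)) [p.IsPrime]
    (c : MvPowerSeries (Fin d) R) (hp : ∀ a, a ∈ p ↔ a * c = 0) :
    ∃ q : Ideal R, q.IsPrime ∧ q ≠ maximalIdeal R ∧ p ≤ q.comap constantCoeff := by
  classical
  have hc : ∃ n, ∃ e : Fin d →₀ ℕ, Finsupp.degree e = n ∧ coeff e c ≠ 0 := by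
    by_contra h
    push Not at h
    have : c = 0 := MvPowerSeries.ext fun e => by simpa using h _ e rfl
    exact Ideal.IsPrime.ne_top' ((Ideal.eq_top_iff_one p).mpr ((hp 1).mpr (by rw [this, mul_zero])))
  obtain ⟨e, he, hne⟩ := Nat.find_spec hc
  have hlow : ∀ e', Finsupp.degree e' < Finsupp.degree e → coeff e' c = 0 := fun e' h' => by
    by_contra hne'
    exact Nat.find_min hc (he ▸ h') ⟨e', rfl, hne'⟩
  obtain ⟨q, hq, hle⟩ := exists_le_isAssociatedPrime_of_isNoetherianRing R (coeff e c) hne
  refine ⟨q, hq.isPrime, fun hqm => ?_, fun a ha => hle ?_⟩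
  · have h0 : LocCoh.depth R R = 0 := by
      rw [Depth.depth_eq_idealDepth, Depth.idealDepth_eq_zero_iff]
      exact ⟨q, hq, hqm.ge⟩
    rw [h0] at hR
    exact absurd hR (by decide)
  · rw [Submodule.mem_colon_singleton, Submodule.mem_bot, smul_eq_mul]
    have h := congrArg (coeff e) ((hp a).mp ha)
    rw [map_zero, coeff_mul, Finset.sum_eq_single ((0, e) : (Fin d →₀ ℕ) × (Fin d →₀ ℕ))] at h
    · simpa [coeff_zero_eq_constantCoeff] using h
    · rintro ⟨e₁, e₂⟩ hmem hne'
      rw [Finset.mem_antidiagonal] at hmem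
      have hsum : Finsupp.degree e₁ + Finsupp.degree e₂ = Finsupp.degree e := by
        rw [← map_add, hmem]
      rcases eq_or_ne e₁ 0 with h1 | h1
      · exact absurd (by subst h1; simp_all) hne'
      · rw [hlow e₂ (by
          have : Finsupp.degree e₁ ≠ 0 := fun h0 => h1 ((Finsupp.degree_eq_zero_iff _).mp h0)
          omega), mul_zero]
    · simp

/-- A family compatible modulo the powers of `(X)` has a limit. -/
theorem exists_lim (b : ℕ → MvPowerSeries (Fin d) R) (hb : ∀ n, b (n + 1) - b n ∈ 𝔛 ^ (n + 1)) :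
    ∃ a, ∀ n, a - b n ∈ 𝔛 ^ (n + 1) := by
  let a : MvPowerSeries (Fin d) R := fun e => coeff e (b (Finsupp.degree e))
  have key : ∀ n r, b (n + r) - b n ∈ 𝔛 ^ (n + 1) := fun n r => by
    induction r with
    | zero => simp
    | succ r ih =>
      show b (n + r + 1) - b n ∈ _
      rw [← sub_add_sub_cancel (b (n + r + 1)) (b (n + r)) (b n)]
      exact add_mem (Ideal.pow_le_pow_right (by omega) (hb (n + r))) ih
  refine ⟨a, fun n => mem_pow_iff.mpr fun e he => ?_⟩
  obtain ⟨r, hr⟩ := Nat.exists_eq_add_of_le (Nat.lt_succ_iff.mp he)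
  have := coeff_eq_zero_of_mem_pow (key (Finsupp.degree e) r) e (Nat.lt_succ_self _)
  rw [← hr, map_sub, sub_eq_zero] at this
  rw [map_sub, this]
  exact sub_self _

end Groth.Agent.Pi1PS
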