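/-
Formal functions along the zero section of a power series ring, on an open of the spectrum.
-/
import Groth.Agent.Pi1PS.Alg
import Groth.Agent.FEtCat.Lef.Main
import Groth.Agent.S2946
import Groth.Agent.TorsorClos.Hartogs
import Groth.Agent.EGA4Lib.DepthFlat
import Groth.Agent.HartogsAffine.Basic
import Mathlib.AlgebraicGeometry.Stalk

set_option autoImplicit false
set_option linter.style.haveILetI false
set_option backward.isDefEq.respectTransparency.types false

universe u

open CategoryTheory CategoryTheory.Limits AlgebraicGeometry IsLocalRing Groth.Agent.QCoh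
open Groth.Agent.Props.GenLocus (homOfSec)
open scoped TensorProduct

namespace Groth.Agent.Pi1PS

/-- A flat morphism does not lower the depth. -/
theorem depth_le_of_flat {X S : Scheme.{u}} [IsLocallyNoetherian X] [IsLocallyNoetherian S]
    (f : X ⟶ S) [Flat f] (x : X) :
    LocCoh.depth (S.presheaf.stalk (f x)) (S.presheaf.stalk (f x)) ≤
      LocCoh.depth (X.presheaf.stalk x) (X.presheaf.stalk x) := by
  algebraize [(f.stalkMap x).hom]
  haveI : Module.Flat (S.presheaf.stalk (f x)) (X.presheaf.stalk x) := Flat.stalkMap f x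
  haveI : IsLocalHom (algebraMap (S.presheaf.stalk (f x)) (X.presheaf.stalk x)) := f.toLRSHom.prop x
  have h := EGA4Lib.depth_tensor_of_flat (R := S.presheaf.stalk (f x)) (S := X.presheaf.stalk x)
    (N := X.presheaf.stalk x) (M := S.presheaf.stalk (f x))
  rw [Depth.depth_eq_idealDepth, Depth.idealDepth_congr (TensorProduct.AlgebraTensorModule.rid _ _ _),
    ← Depth.depth_eq_idealDepth] at h
  rw [h]
  exact le_self_add

variable (R : Type u) [CommRing R] [IsNoetherianRing R] [IsLocalRing R] (d : ℕ)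

theorem depth_closedPoint :
    LocCoh.depth ((Spec (CommRingCat.of R)).presheaf.stalk (closedPoint R))
      ((Spec (CommRingCat.of R)).presheaf.stalk (closedPoint R)) = LocCoh.depth R R :=
  (HartogsAffine.depth_congr_ringEquiv
    (stalkClosedPointIso (CommRingCat.of R)).commRingCatIsoToRingEquiv.symm)

/-- The power series ring. -/
abbrev B : Type u := MvPowerSeries (Fin d) R

/-- The projection. -/
noncomputable abbrev pr : Spec (CommRingCat.of (B R d)) ⟶ Spec (CommRingCat.of R) :=
  Spec.map (CommRingCat.ofHom (MvPowerSeries.C : R →+* B R d))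

/-- The zero section. -/
noncomputable abbrev zs : Spec (CommRingCat.of R) ⟶ Spec (CommRingCat.of (B R d)) :=
  Spec.map (CommRingCat.ofHom (MvPowerSeries.constantCoeff : B R d →+* R))

theorem flat_pr : Flat (pr R d) := Flat.SpecMap_iff.mpr (RamSam.flat_C (Fin d))

theorem zs_pr : zs R d ≫ pr R d = 𝟙 _ := by
  rw [← Spec.map_comp, ← CommRingCat.ofHom_comp, MvPowerSeries.constantCoeff_comp_C,
    CommRingCat.ofHom_id, Spec.map_id]

variable {R d}

/-- Functions on the open. -/
noncomputable abbrev toV (V : (Spec (CommRingCat.of (B R d))).Opens) : B R d →+* Γ((V : Scheme.{u}), ⊤) :=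
  ((Scheme.ΓSpecIso (CommRingCat.of (B R d))).inv ≫ V.ι.appTop).hom

theorem ideal_comap_SpecMap (V : (Spec (CommRingCat.of (B R d))).Opens) {C : CommRingCat.{u}}
    (ψ : CommRingCat.of (B R d) ⟶ C) (W : (V : Scheme.{u}).affineOpens) :
    ((Spec.map ψ).ker.comap V.ι).ideal W =
      (RingHom.ker ψ.hom).map (((V : Scheme.{u}).presheaf.map (homOfLE (le_top : W.1 ≤ ⊤)).op).hom.comp
        (toV V)) := by
  let X := Spec (CommRingCat.of (B R d))
  have htop : RingHom.ker (Spec.map ψ).appTop.hom =
      (RingHom.ker ψ.hom).map (Scheme.ΓSpecIso (CommRingCat.of (B R d))).inv.hom := by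
    ext x
    obtain ⟨a, rfl⟩ := (Scheme.ΓSpecIso (CommRingCat.of (B R d))).commRingCatIsoToRingEquiv.symm.surjective x
    have h1 : (Spec.map ψ).appTop ((Scheme.ΓSpecIso (CommRingCat.of (B R d))).inv a) =
        (Scheme.ΓSpecIso C).inv (ψ a) := congr($(Scheme.ΓSpecIso_inv_naturality ψ) a).symm
    refine Iff.trans ?_ (Ideal.mem_map_iff_of_surjective (Scheme.ΓSpecIso (CommRingCat.of (B R d))).inv.hom
      (Scheme.ΓSpecIso (CommRingCat.of (B R d))).commRingCatIsoToRingEquiv.symm.surjective).symm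
    refine ⟨fun h => ⟨a, ?_, rfl⟩, ?_⟩
    · have h' : (Scheme.ΓSpecIso C).inv (ψ a) = 0 := h1.symm.trans h
      exact (map_eq_zero_iff _ (Scheme.ΓSpecIso C).commRingCatIsoToRingEquiv.symm.injective).mp h'
    · rintro ⟨b, hb, e⟩
      obtain rfl : b = a :=
        (Scheme.ΓSpecIso (CommRingCat.of (B R d))).commRingCatIsoToRingEquiv.symm.injective e
      show (Spec.map ψ).appTop ((Scheme.ΓSpecIso (CommRingCat.of (B R d))).inv b) = 0
      rw [h1, show ψ b = 0 from hb, map_zero]
  have hinv : Function.Bijective (V.ι.appIso W.1).inv.hom :=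
    (ConcreteCategory.isIso_iff_bijective _).1 inferInstance
  rw [Scheme.IdealSheafData.ideal_comap_of_isOpenImmersion, Scheme.ker_of_isAffine,
    Scheme.IdealSheafData.ofIdealTop_ideal, htop, Ideal.map_map]
  change Ideal.comap (V.ι.appIso W.1).inv.hom _ = _
  rw [← Ideal.comap_map_of_bijective (V.ι.appIso W.1).inv.hom hinv (I := (RingHom.ker ψ.hom).map
    (((V : Scheme.{u}).presheaf.map (homOfLE (le_top : W.1 ≤ ⊤)).op).hom.comp (toV V))), Ideal.map_map]
  congr 2
  ext a
  change _ = (V.ι.appIso W.1).inv (rres (le_top : W.1 ≤ ⊤) (V.ι.appTop ((Scheme.ΓSpecIso _).inv a)))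
  rw [Scheme.Opens.ι_appTop, Scheme.Opens.ι_appIso]
  exact (rres_rres (X := X) le_top (V.ι.image_mono le_top) _).symm

theorem toSub_props {X P : Scheme.{u}} {A : Type u} [CommRing A] (f : P ⟶ X) [IsClosedImmersion f]
    (J : X.IdealSheafData) (hJ : J = f.ker) (φ : A →+* Γ(X, ⊤))
    (hs : Function.Surjective (f.appTop.hom.comp φ)) :
    (∀ σ : Γ(ClSub.quotMod J, ⊤), ∃ a, (ClSub.toSubscheme J).app ⊤ (φ a) = σ) ∧
      ∀ a, (ClSub.toSubscheme J).app ⊤ (φ a) = 0 ↔ f.appTop (φ a) = 0 := by
  subst hJ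
  haveI : IsIso f.toImage.appTop := inferInstanceAs (IsIso (f.toImage.app ⊤))
  have he : ∀ t, f.appTop t = f.toImage.appTop ((ClSub.toSubscheme f.ker).app ⊤ t) := fun t => by
    conv_lhs => rw [← f.toImage_imageι]
    rfl
  have hinj : Function.Injective f.toImage.appTop.hom :=
    (ConcreteCategory.bijective_of_isIso f.toImage.appTop).1
  refine ⟨fun σ => ?_, fun a => ?_⟩
  · obtain ⟨a, ha⟩ := hs (f.toImage.appTop σ)
    exact ⟨a, hinj ((he _).symm.trans ha)⟩
  · rw [he]
    exact ((map_eq_zero_iff _ hinj).trans Iff.rfl).symm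

/-- Formal functions along the zero section. -/
theorem homToFormal (hR : (2 : ℕ∞) ≤ LocCoh.depth R R) [IsLocalRing (B R d)]
    (V : (Spec (CommRingCat.of (B R d))).Opens)
    (hV : ∀ y : Spec (CommRingCat.of (B R d)),
      (∀ i, MvPowerSeries.X i ∈ (y : PrimeSpectrum (B R d)).asIdeal) →
        (y ∈ V ↔ y ≠ closedPoint (B R d))) :
    _root_.Lef.HomToFormalBijective ((zs R d).ker.comap V.ι) (Coh.structureModule (V : Scheme.{u})) := by
  let X := Spec (CommRingCat.of (B R d))
  set J := (zs R d).ker.comap V.ι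
  set I : Ideal (B R d) := Ideal.span (Set.range MvPowerSeries.X)
  haveI : IsClosedImmersion (zs R d) :=
    IsClosedImmersion.spec_of_surjective _ fun r => ⟨MvPowerSeries.C r, MvPowerSeries.constantCoeff_C r⟩
  have hcomp : (MvPowerSeries.constantCoeff : B R d →+* R).comp MvPowerSeries.C = RingHom.id R :=
    MvPowerSeries.constantCoeff_comp_C
  have hm : (maximalIdeal R).comap (MvPowerSeries.constantCoeff : B R d →+* R) = maximalIdeal (B R d) := by
    have := Ideal.comap_isMaximal_of_surjective (MvPowerSeries.constantCoeff : B R d →+* R)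
      (fun r => ⟨MvPowerSeries.C r, MvPowerSeries.constantCoeff_C r⟩) (K := maximalIdeal R)
    exact IsLocalRing.eq_maximalIdeal this
  have hclosed : pr R d (closedPoint (B R d)) = closedPoint R := by
    refine PrimeSpectrum.ext ?_
    show (maximalIdeal (B R d)).comap MvPowerSeries.C = maximalIdeal R
    rw [← hm, Ideal.comap_comap, hcomp, Ideal.comap_id]
  have hpow : ∀ n (W : (V : Scheme.{u}).affineOpens), (J ^ (n + 1)).ideal W = (I ^ (n + 1)).map
      (((V : Scheme.{u}).presheaf.map (homOfLE (le_top : W.1 ≤ ⊤)).op).hom.comp (toV V)) := fun n W => by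
    rw [Scheme.IdealSheafData.ideal_pow, Pi.pow_apply, Ideal.map_pow]
    congr 1
    rw [ideal_comap_SpecMap V]
    congr 1
    exact ker_constantCoeff
  let q : ∀ n : ℕ, Coh.structureModule (V : Scheme.{u}) ⟶ ClSub.quotMod (J ^ (n + 1)) :=
    fun n => ClSub.toSubscheme _
  have lvl : ∀ n, (∀ σ : Γ(ClSub.quotMod (J ^ (n + 1)), ⊤),
        ∃ a, (q n).app ⊤ (toV V a) = σ) ∧
      ∀ a, (q n).app ⊤ (toV V a) = 0 ↔ a ∈ I ^ (n + 1) := by
    intro n
    let Q : CommRingCat.{u} := CommRingCat.of (B R d ⧸ I ^ (n + 1))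
    let ψ : CommRingCat.of (B R d) ⟶ Q := CommRingCat.ofHom (Ideal.Quotient.mk (I ^ (n + 1)))
    haveI : IsClosedImmersion (Spec.map ψ) :=
      IsClosedImmersion.spec_of_surjective _ Ideal.Quotient.mk_surjective
    haveI : IsNoetherianRing Q := inferInstanceAs (IsNoetherianRing (B R d ⧸ I ^ (n + 1)))
    haveI : Flat (Spec.map ψ ≫ pr R d) := by
      rw [← Spec.map_comp]
      refine Flat.SpecMap_iff.mpr ?_
      have : Module.Flat R (B R d ⧸ I ^ (n + 1)) := flat_quot_pow (n + 1)
      have h2 : (algebraMap R (B R d ⧸ I ^ (n + 1))).Flat := RingHom.flat_algebraMap_iff.2 this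
      exact h2
    let f := pullback.fst V.ι (Spec.map ψ)
    let s := pullback.snd V.ι (Spec.map ψ)
    haveI : IsIso s.appTop := TorsorClos.isIso_appTop_of_isOpenImmersion s fun z hz => by
      refine ⟨inferInstance, ?_⟩
      have hzV : Spec.map ψ z ∉ V := fun h => hz (by
        rw [Scheme.Pullback.range_snd, Scheme.Opens.range_ι]; exact h)
      have hzI : ∀ i, MvPowerSeries.X i ∈ ((Spec.map ψ z : X) : PrimeSpectrum (B R d)).asIdeal := fun i => by
        show Ideal.Quotient.mk (I ^ (n + 1)) (MvPowerSeries.X i) ∈ z.asIdeal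
        refine z.2.mem_of_pow_mem (n + 1) ?_
        rw [← map_pow, Ideal.Quotient.eq_zero_iff_mem.mpr
          (Ideal.pow_mem_pow (show MvPowerSeries.X i ∈ I from Ideal.subset_span ⟨i, rfl⟩) (n + 1))]
        exact zero_mem _
      have hzc : Spec.map ψ z = closedPoint (B R d) := by
        by_contra hne
        exact hzV ((hV _ hzI).mpr hne)
      refine le_trans ?_ (depth_le_of_flat (Spec.map ψ ≫ pr R d) z)
      rw [show (Spec.map ψ ≫ pr R d) z = closedPoint R by
        rw [Scheme.Hom.comp_apply, hzc, hclosed]]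
      rw [depth_closedPoint]
      exact hR
    have hker : J ^ (n + 1) = f.ker := by
      rw [Scheme.IdealSheafData.ker_fst_of_isClosedImmersion]
      refine Scheme.IdealSheafData.ext (funext fun W => ?_)
      rw [hpow, ideal_comap_SpecMap V]
      congr 1
      exact Ideal.mk_ker.symm
    have hval : ∀ a, f.appTop (toV V a) = s.appTop ((Scheme.ΓSpecIso Q).inv (ψ a)) := fun a => by
      have h1 := congr($(Scheme.ΓSpecIso_inv_naturality ψ) a)
      have h2 := congr($(congrArg Scheme.Hom.appTop (pullback.condition (f := V.ι) (g := Spec.map ψ)))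
        ((Scheme.ΓSpecIso (CommRingCat.of (B R d))).inv a))
      simp only [Scheme.Hom.comp_appTop, CommRingCat.comp_apply] at h1 h2
      exact h2.trans (congrArg _ h1.symm)
    have hbij : Function.Bijective (fun c : Q => s.appTop ((Scheme.ΓSpecIso Q).inv c)) :=
      (ConcreteCategory.bijective_of_isIso s.appTop).comp
        (ConcreteCategory.bijective_of_isIso (Scheme.ΓSpecIso Q).inv)
    obtain ⟨h1, h2⟩ := toSub_props f _ hker (toV V) fun x => by
      obtain ⟨c, hc⟩ := hbij.2 x
      obtain ⟨a, rfl⟩ := Ideal.Quotient.mk_surjective c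
      exact ⟨a, (hval a).trans hc⟩
    refine ⟨h1, fun a => (h2 a).trans ?_⟩
    rw [hval, ← Ideal.Quotient.eq_zero_iff_mem]
    exact ⟨fun h => hbij.1 (show _ = s.appTop ((Scheme.ΓSpecIso Q).inv 0) by rw [map_zero, map_zero]; exact h), fun h => by
      rw [show ψ a = 0 from h, map_zero, map_zero]⟩
  have hcompq : ∀ (n : ℕ) (t : Γ((V : Scheme.{u}), ⊤)),
      (_root_.Lef.quotMap (_root_.Lef.pow_succ_le J n)).app ⊤ ((q (n + 1)).app ⊤ t) =
        (q n).app ⊤ t := fun n t => by
    rw [← FEtCat.Lef.app_comp]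
    simp only [q, FEtCat.Lef.toSub_comp_quotMap]
  have hsep : ∀ s : Γ((V : Scheme.{u}), ⊤),
      (∀ n, (q n).app ⊤ s = 0) → s = 0 := by
    intro s hs
    let t : Γ(X, V) := V.topIso.hom s
    let ψ : ∀ y : X, B R d →+* X.presheaf.stalk y := fun y =>
      ((Scheme.ΓSpecIso (CommRingCat.of (B R d))).inv ≫ X.presheaf.germ ⊤ y trivial).hom
    have hloc : ∀ y : X, @IsLocalization.AtPrime _ _ (X.presheaf.stalk y) _ (ψ y).toAlgebra
        y.asIdeal _ := fun y => by
      have := StructureSheaf.IsLocalization.to_stalk (B R d) y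
      exact this
    -- vanishing near the zero section
    have hzero : ∀ (P : X) (hP : P ∈ V), (∀ i, MvPowerSeries.X i ∈ (P : PrimeSpectrum (B R d)).asIdeal) →
        X.presheaf.germ V P hP t = 0 := by
      intro P hP hPI
      obtain ⟨W, hW, hPW, -⟩ := exists_isAffineOpen_mem_and_subset (X := (V : Scheme.{u}))
        (x := ⟨P, hP⟩) (U := ⊤) trivial
      letI := (ψ P).toAlgebra
      haveI := hloc P
      have hle : I.map (ψ P) ≤ maximalIdeal (X.presheaf.stalk P) := by
        rw [← IsLocalization.AtPrime.map_eq_maximalIdeal P.asIdeal (X.presheaf.stalk P)]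
        exact Ideal.map_mono (Ideal.span_le.2 (by rintro _ ⟨i, rfl⟩; exact hPI i))
      have hne : I.map (ψ P) ≠ ⊤ := fun h =>
        (maximalIdeal.isMaximal _).ne_top (top_le_iff.1 (h ▸ hle))
      refine (Submodule.mem_bot _).1 ((Ideal.iInf_pow_eq_bot_of_isLocalRing _ hne).le ?_)
      refine Submodule.mem_iInf _ |>.2 fun n => ?_
      refine Ideal.pow_le_pow_right (Nat.le_succ n) ?_
      have hres : (V : Scheme.{u}).presheaf.map (homOfLE (le_top : W ≤ ⊤)).op s ∈ (J ^ (n + 1)).ideal ⟨W, hW⟩ := by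
        refine (FEtCat.Lef.toSub_eq_zero_iff _ hW _).1 ?_
        change (q n).app W (res (Coh.structureModule _) le_top s) = 0
        rw [app_res, hs, map_zero]
      rw [hpow] at hres
      have hgerm : X.presheaf.germ V P hP t =
          X.presheaf.germ (V.ι ''ᵁ W) P ⟨_, hPW, rfl⟩
            ((V : Scheme.{u}).presheaf.map (homOfLE (le_top : W ≤ ⊤)).op s) := by
        have key : ∀ {U U' : X.Opensᵒᵖ} (i : U ⟶ U') (h : P ∈ U'.unop) (z : X.presheaf.obj U),
            X.presheaf.germ U'.unop P h (X.presheaf.map i z) =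
              X.presheaf.germ U.unop P (i.unop.le h) z := fun i h z =>
          TopCat.Presheaf.germ_res_apply X.presheaf i.unop P h z
        refine (key (U := Opposite.op (V.ι ''ᵁ ⊤)) (U' := Opposite.op V) _ hP s).trans ?_
        exact (key (U := Opposite.op (V.ι ''ᵁ ⊤)) (U' := Opposite.op (V.ι ''ᵁ W)) _
          ⟨_, hPW, rfl⟩ s).symm
      rw [hgerm, ← Ideal.map_pow]
      have := Ideal.mem_map_of_mem (X.presheaf.germ (V.ι ''ᵁ W) P ⟨_, hPW, rfl⟩).hom hres
      erw [Ideal.map_map] at this
      refine (le_of_eq (congrArg (Ideal.map · (I ^ (n + 1))) ?_)) this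
      ext a
      have key : ∀ {U U' : X.Opensᵒᵖ} (i : U ⟶ U') (h : P ∈ U'.unop) (z : X.presheaf.obj U),
          X.presheaf.germ U'.unop P h (X.presheaf.map i z) =
            X.presheaf.germ U.unop P (i.unop.le h) z := fun i h z =>
        TopCat.Presheaf.germ_res_apply X.presheaf i.unop P h z
      show X.presheaf.germ _ P _ ((V : Scheme.{u}).presheaf.map _ (V.ι.appTop ((Scheme.ΓSpecIso _).inv a))) = _
      rw [Scheme.Opens.ι_appTop]
      refine (key (U := Opposite.op (V.ι ''ᵁ ⊤)) (U' := Opposite.op (V.ι ''ᵁ W)) _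
        ⟨_, hPW, rfl⟩ _).trans ?_
      exact key (U := Opposite.op ⊤) (U' := Opposite.op (V.ι ''ᵁ ⊤)) _ _ _
    have ht : t = 0 := TopCat.Presheaf.section_ext X.sheaf V t 0 fun y hy => by
      rw [map_zero]
      by_contra hne
      letI := (ψ y).toAlgebra
      haveI := hloc y
      obtain ⟨⟨b, u⟩, hbu⟩ := IsLocalization.surj y.asIdeal.primeCompl (X.presheaf.germ V y hy t)
      have hKy : LinearMap.ker (LinearMap.toSpanSingleton (B R d) (B R d) b) ≤ y.asIdeal := fun v hv => by
        by_contra hvy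
        apply hne
        have hb0 : algebraMap (B R d) (X.presheaf.stalk y) b = 0 :=
          (IsLocalization.map_eq_zero_iff y.asIdeal.primeCompl _ b).2 ⟨⟨v, hvy⟩, hv⟩
        rw [hb0] at hbu
        exact ((IsLocalization.map_units (X.presheaf.stalk y) u).mul_left_eq_zero).1 hbu
      set K := LinearMap.ker (LinearMap.toSpanSingleton (B R d) (B R d) b)
      obtain ⟨p, hp, hpy⟩ := Ideal.exists_minimalPrimes_le hKy
      have hass : p ∈ associatedPrimes (B R d) (B R d ⧸ K) := by
        refine Module.associatedPrimes.minimalPrimes_annihilator_subset_associatedPrimes (B R d) _ ?_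
        rwa [Ideal.annihilator_quotient]
      obtain ⟨hpp, x, hx⟩ := isAssociatedPrime_iff.1 hass
      obtain ⟨c, rfl⟩ := Ideal.Quotient.mk_surjective x
      haveI := hpp
      have hpc : ∀ a, a ∈ p ↔ a * (c * b) = 0 := fun a => by
        rw [hx, Submodule.mem_colon_singleton, Submodule.mem_bot, ← mul_assoc]
        change Ideal.Quotient.mk K (a * c) = 0 ↔ _
        rw [Ideal.Quotient.eq_zero_iff_mem]
        exact Iff.rfl
      obtain ⟨r, hq, hqm, hpq⟩ := exists_prime_of_colon (le_trans (by norm_num) hR) p (c * b) hpc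
      let P : X := ⟨r.comap MvPowerSeries.constantCoeff, inferInstance⟩
      let p' : X := ⟨p, hpp⟩
      have hPI : ∀ i, MvPowerSeries.X i ∈ (P : PrimeSpectrum (B R d)).asIdeal := fun i => by
        show MvPowerSeries.constantCoeff (MvPowerSeries.X i) ∈ r
        rw [MvPowerSeries.constantCoeff_X]; exact zero_mem _
      have hP : P ∈ V := (hV P hPI).2 fun h => hqm (by
        have h' : r.comap MvPowerSeries.constantCoeff = maximalIdeal (B R d) := congrArg PrimeSpectrum.asIdeal h
        rw [← hm] at h'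
        exact Ideal.comap_injective_of_surjective _
          (fun r => ⟨MvPowerSeries.C r, MvPowerSeries.constantCoeff_C r⟩) h')
      have hsP : p' ⤳ P := (PrimeSpectrum.le_iff_specializes p' P).1 hpq
      have hsy : p' ⤳ y := (PrimeSpectrum.le_iff_specializes p' y).1 hpy
      have hp'V : p' ∈ V := hsy.mem_open V.isOpen hy
      have h0 : X.presheaf.germ V p' hp'V t = 0 := by
        rw [← TopCat.Presheaf.germ_stalkSpecializes_apply X.presheaf hP hsP t, hzero P hP hPI, map_zero]
      have h1 : ψ p' b = 0 := by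
        have hψ : ∀ a, X.presheaf.stalkSpecializes hsy (ψ y a) = ψ p' a := fun a =>
          TopCat.Presheaf.germ_stalkSpecializes_apply X.presheaf (U := ⊤) trivial hsy _
        have := congrArg (X.presheaf.stalkSpecializes hsy) hbu
        rw [map_mul, TopCat.Presheaf.germ_stalkSpecializes_apply X.presheaf hy hsy t, h0, zero_mul] at this
        exact (hψ b).symm.trans this.symm
      letI := (ψ p').toAlgebra
      haveI := hloc p'
      obtain ⟨⟨v, hv⟩, hvb⟩ := (IsLocalization.map_eq_zero_iff p.primeCompl _ b).1 h1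
      exact hv (hp.1.2 hvb)
    exact V.topIso.commRingCatIsoToRingEquiv.injective (ht.trans (map_zero _).symm)
  refine ⟨fun φ χ h => S2946.hom_ext_one _ _ (sub_eq_zero.1 (hsep _ fun n => ?_)), fun y hy => ?_⟩
  · rw [map_sub, sub_eq_zero]
    exact congrArg (fun r : Coh.structureModule (V : Scheme.{u}) ⟶ ClSub.quotMod (J ^ (n + 1)) =>
      r.app ⊤ (1 : Γ((V : Scheme.{u}), ⊤))) (h n)
  choose b hb using fun n => (lvl n).1 ((y n).app ⊤ (1 : Γ((V : Scheme.{u}), ⊤)))
  obtain ⟨a, ha⟩ := exists_lim b fun n => by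
    refine ((lvl n).2 _).1 ?_
    rw [map_sub]
    refine (map_sub ((q n).app ⊤).hom _ _).trans (sub_eq_zero.2 ?_)
    refine Eq.trans ?_ (hb n).symm
    rw [← hcompq]
    refine (congrArg _ (hb (n + 1))).trans ?_
    exact congrArg (fun r : Coh.structureModule (V : Scheme.{u}) ⟶ ClSub.quotMod (J ^ (n + 1)) =>
      r.app ⊤ (1 : Γ((V : Scheme.{u}), ⊤))) (hy n)
  refine ⟨homOfSec (L := Coh.structureModule (V : Scheme.{u})) (toV V a), fun n => S2946.hom_ext_one _ _ ?_⟩
  rw [Scheme.Modules.Hom.comp_app, ConcreteCategory.comp_apply, S2946.app_one_homOfSec, ← hb n]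
  refine sub_eq_zero.1 ((map_sub ((q n).app ⊤).hom _ _).symm.trans ?_)
  exact (congrArg ((q n).app ⊤).hom (map_sub (toV V) a (b n)).symm).trans (((lvl n).2 _).2 (ha n))

end Groth.Agent.Pi1PS
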